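import Groth.Agent.S0795
import Groth.Agent.Lib.OX.RpushQCoh
import Groth.Agent.Lib.OX.CohClass
import Groth.Agent.Lib.SheafCoh.ModGroth

/-!
# Derived direct images of coherent complexes with support proper over the base
-/

set_option autoImplicit false
set_option maxHeartbeats 400000
set_option linter.style.haveILetI false
set_option backward.isDefEq.respectTransparency false

universe u

open CategoryTheory CategoryTheory.Limits CategoryTheory.Pretriangulated AlgebraicGeometry TopologicalSpace

attribute [local instance] HasDerivedCategory.standard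

namespace GrothLib.RpushSupp20

variable {X S : Scheme.{u}} (f : X ⟶ S)

theorem hasInjectiveResolutions (X : Scheme.{u}) : HasInjectiveResolutions X.Modules :=
  haveI : IsGrothendieckAbelian.{u} X.Modules :=
    GrothLib.SheafCoh.isGrothendieckAbelian_sheafOfModules (R := X.ringCatSheaf)
  inferInstance

/-- Coherent modules with support proper over the base. -/
def properP : ObjectProperty X.Modules := fun M =>
  Coh.IsCoh M ∧ ClSub.IsProperOver f (CohB1.support M)

theorem properP_of_isZero [LocallyOfFiniteType f] {M : X.Modules} (h : IsZero M) : properP f M := by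
  refine ⟨OX.isCoh_of_isZero h, ?_⟩
  have h0 : CohB1.support M = ⋃ i : PEmpty.{1}, (i.elim : Set X) := by
    refine (Set.eq_empty_of_forall_notMem fun x hx => ?_).trans (Set.iUnion_of_empty _).symm
    exact hx (ModuleCat.isZero_iff_subsingleton.1 ((OX.stalk x).map_isZero h))
  rw [h0]
  exact ProperOver.isProperOver_iUnion f _ fun i => i.elim

theorem properP_of_subset {M : X.Modules} (hM : Coh.IsCoh M) {Z : Set X} (hZ : ClSub.IsProperOver f Z)
    (hle : CohB1.support M ⊆ Z) : properP f M :=
  ⟨hM, ProperOver.IsProperOver.subset f hZ (QCoh.isClosed_support_of_isCoh hM) hle⟩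

variable [IsLocallyNoetherian X] [LocallyOfFiniteType f]

instance isWeakSerre_properP : WSerre.IsWeakSerre (properP f) where
  exists_zero := by
    obtain ⟨Z, hZ⟩ : ∃ Z : X.Modules, IsZero Z := HasZeroObject.zero
    exact ⟨Z, hZ, properP_of_isZero f hZ⟩
  kernels_le := fun K hK => by
    obtain ⟨g, k, hk, hg⟩ := hK
    let e := IsLimit.conePointUniqueUpToIso (kernelIsKernel g) hk
    exact properP_of_subset f (QCoh.isCoh_of_iso e (QCoh.isCoh_kernel g hg.1.1 hg.2.1)) hg.1.2
      ((QCoh.support_eq_of_iso e).ge.trans (QCoh.support_subset_of_mono (kernel.ι g)))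
  cokernels_le := fun K hK => by
    obtain ⟨g, k, hk, hg⟩ := hK
    let e := IsColimit.coconePointUniqueUpToIso (cokernelIsCokernel g) hk
    exact properP_of_subset f (QCoh.isCoh_of_iso e (QCoh.isCoh_cokernel g hg.1.1 hg.2.1)) hg.2.2
      ((QCoh.support_eq_of_iso e).ge.trans (QCoh.support_subset_of_epi (cokernel.π g)))
  prop_X₂_of_shortExact := fun {T} hT h₁ h₃ => by
    refine properP_of_subset f (OX.isCoh_extension hT h₁.1 h₃.1)
      (ProperOver.isProperOver_iUnion f (fun b : Bool => cond b (CohB1.support T.X₁) (CohB1.support T.X₃))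
        fun b => by cases b <;> [exact h₃.2; exact h₁.2]) ?_
    exact (QCoh.support_subset_union hT).trans (Set.union_eq_iUnion).le

variable [IsLocallyNoetherian S]

theorem cohIn_Rres (E : DCoh.D X) (a : ℤ) [E.IsGE a] (hE : WSerre.cohIn (properP f) E) :
    DCoh.IsCohD ((SiteDer.Rres (OX.rmor f)).obj E) :=
  haveI := hasInjectiveResolutions X
  @SiteDer.cohIn_Rres_of_plus _ _ _ _ _ _ _ _ (OX.rmor f) (properP f) (isWeakSerre_properP f) _
    (OX.cohP S) OX.isWeakSerre_cohP
    (fun M hM p => @Groth.Agent.S0795.result X S f _ _ _ M hM.1 hM.2 p) E a ‹_› hE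

omit [IsLocallyNoetherian X] [IsLocallyNoetherian S] in
/-- The higher direct images of a coherent module with proper support vanish eventually. -/
theorem exists_bound_Rpush [CompactSpace S] (F : X.Modules) (hF : properP f F) :
    ∃ N : ℤ, ∀ p : ℕ, N < (p : ℤ) → IsZero (((OX.rmor f).Rpush p).obj F) := by
  haveI := hasInjectiveResolutions X
  have := hF.1.1
  let J := QCoh.annIdeal F hF.1.2
  have hr : Set.range J.subschemeι = CohB1.support F := by
    rw [Scheme.IdealSheafData.range_subschemeι]; exact QCoh.coe_support_annIdeal F hF.1.2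
  have := QCoh.isIso_unit_annIdeal F hF.1.2
  let e := asIso ((Scheme.Modules.pullbackPushforwardAdjunction J.subschemeι).unit.app F)
  let G := (Scheme.Modules.pullback J.subschemeι).obj F
  haveI : G.IsQuasicoherent :=
    (QCoh.isCoh_of_pushforward J.subschemeι _ (QCoh.isCoh_of_iso e hF.1)).1
  have := ProperOver.isProper_of_isProperOver f J.subschemeι (hr ▸ hF.2)
  haveI := hasInjectiveResolutions J.subscheme
  obtain ⟨N, hN⟩ := OX.exists_bound_Rres (J.subschemeι ≫ f)
  refine ⟨N, fun p hp => ?_⟩
  obtain ⟨e'⟩ := Cohom.nonempty_Rpush_pushforward_iso J.subschemeι f G p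
  have hq : DCoh.IsQCohD (DCoh.inD _ G) :=
    DerTrunc.cohIn_single (OX.qcohP J.subscheme) (show Coh.IsQCoh G from ‹_›) 0
  have h0 := (hN (DCoh.inD _ G) hq inferInstance p (by omega)).of_iso
    (SiteDer.nonempty_homology_Rres_single (OX.rmor (J.subschemeι ≫ f)) G p).some.symm
  exact IsZero.of_iso h0 ((Coh.Rpush f p).mapIso e ≪≫ e')

omit [IsLocallyNoetherian S] in
theorem exists_isZero_homology_Rres [CompactSpace S] (m : ℕ) :
    ∀ (E : DCoh.D X) (a : ℤ) [E.IsGE a] [E.IsLE (a + m)], WSerre.cohIn (properP f) E →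
      ∃ b' : ℤ, ∀ j, b' < j → IsZero (DCoh.HD ((SiteDer.Rres (OX.rmor f)).obj E) j) := by
  haveI := hasInjectiveResolutions X
  haveI : (SiteDer.Rres (OX.rmor f)).IsTriangulated := SiteDer.isTriangulated_res_map (OX.rmor f).push
  have single : ∀ (E : DCoh.D X) (b : ℤ) [E.IsGE b] [E.IsLE b], WSerre.cohIn (properP f) E →
      ∃ b' : ℤ, ∀ j, b' < j → IsZero (DCoh.HD ((SiteDer.Rres (OX.rmor f)).obj E) j) := fun E b _ _ hE => by
    obtain ⟨e⟩ := DerTrunc.nonempty_iso_single E b
    obtain ⟨N, hN⟩ := exists_bound_Rpush f _ (hE b)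
    exact ⟨N + b, fun j hj => IsZero.of_iso
      (SiteDer.isZero_homology_Rres_single (OX.rmor f) _ hN j b (by omega))
      ((DerivedCategory.homologyFunctor _ j).mapIso ((SiteDer.Rres (OX.rmor f)).mapIso e))⟩
  induction m with
  | zero =>
    intro E a _ hLE hE
    haveI : E.IsLE a := by simpa using hLE
    exact single E a hE
  | succ m ih =>
    intro E a hGE hLE hE
    obtain ⟨b, hb⟩ : ∃ b, b = a + (m + 1 : ℕ) := ⟨_, rfl⟩
    rw [← hb] at hLE
    let t := DerivedCategory.TStructure.t (C := X.Modules)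
    haveI : ((t.truncLT b).obj E).IsLE (a + m) := t.isLE_truncLT_obj E b (a + m) (by omega)
    haveI : ((t.truncLT b).obj E).IsGE a := inferInstanceAs (t.IsGE ((t.truncLT b).obj E) a)
    haveI : ((t.truncGE b).obj E).IsGE b := inferInstanceAs (t.IsGE ((t.truncGE b).obj E) b)
    haveI : ((t.truncGE b).obj E).IsLE b := inferInstanceAs (t.IsLE ((t.truncGE b).obj E) b)
    obtain ⟨b₁, h₁⟩ := ih ((t.truncLT b).obj E) a (DerTrunc.cohIn_truncLT _ hE b)
    obtain ⟨b₃, h₃⟩ := single ((t.truncGE b).obj E) b (DerTrunc.cohIn_truncGE _ hE b)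
    exact ⟨max b₁ b₃, fun j hj => (DerivedCategory.HomologySequence.exact₂ _
      ((SiteDer.Rres (OX.rmor f)).map_distinguished _ (t.triangleLTGE_distinguished b E)) j).isZero_of_both_isZero
      (h₁ j (lt_of_le_of_lt (le_max_left _ _) hj)) (h₃ j (lt_of_le_of_lt (le_max_right _ _) hj))⟩

/-- `Rf_*` of a bounded below object with coherent, properly supported cohomology. -/
theorem isCohD_Rpush [DCoh.HasRpush f] (E : DCoh.D X) (a : ℤ) [E.IsGE a] (hE : WSerre.cohIn (properP f) E) :
    DCoh.IsCohD ((DCoh.Rpush f).obj E) ∧ ((DCoh.Rpush f).obj E).IsGE a := by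
  refine ⟨DerTrunc.cohIn_of_iso (OX.cohP S) ((OX.rpushIsoRres f).app E).symm (cohIn_Rres f E a hE), ?_⟩
  have := SiteDer.isGE_Rres (OX.rmor f) E a
  exact DerivedCategory.TStructure.t.isGE_of_iso ((OX.rpushIsoRres f).app E).symm a

omit [IsLocallyNoetherian S] in
/-- `Rf_*` of a bounded object with coherent, properly supported cohomology is bounded above. -/
theorem exists_isLE_Rpush [CompactSpace S] [DCoh.HasRpush f] (E : DCoh.D X) (a b : ℤ) [E.IsGE a] [E.IsLE b]
    (hE : WSerre.cohIn (properP f) E) : ∃ b' : ℤ, ((DCoh.Rpush f).obj E).IsLE b' := by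
  haveI : E.IsLE (a + (b - a).toNat) := (DerivedCategory.isLE_iff _ _).2 fun i hi =>
    DerivedCategory.isZero_of_isLE E b i (by omega)
  obtain ⟨b', hb'⟩ := exists_isZero_homology_Rres f (b - a).toNat E a hE
  exact ⟨b', (DerivedCategory.isLE_iff _ _).2 fun i hi => (hb' i hi).of_iso
    ((DerivedCategory.homologyFunctor _ i).mapIso ((OX.rpushIsoRres f).app E))⟩

end GrothLib.RpushSupp20
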